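import Groth.Agent.RelDiv.Power
import Groth.Agent.VarDim.Scheme
import Groth.Agent.S2500
import Groth.Agent.S4643

/-!
# Fibre powers of an irreducible smooth variety and their diagonals
-/

set_option autoImplicit false
universe u

open CategoryTheory CategoryTheory.Limits AlgebraicGeometry

noncomputable section

namespace Groth.Agent.SymSing81

open Groth.Agent.RelDiv (pw prj initMap isPullback_initMap)

variable {X S : Scheme.{u}} (f : X ⟶ S)

/-- The base map of the empty fibre power is an isomorphism. -/
instance isIso_base_zero : IsIso (WidePullback.base fun _ : Fin 0 => f) :=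
  ⟨WidePullback.lift (𝟙 S) Fin.elim0 (fun i => i.elim0),
    WidePullback.hom_ext _ _ _ (fun i => i.elim0) (by
      rw [Category.assoc, WidePullback.lift_base, Category.comp_id, Category.id_comp]),
    WidePullback.lift_base _ _ _ _⟩

/-- Properties stable under base change and composition pass to fibre powers. -/
theorem prop_base (P : MorphismProperty Scheme.{u}) [P.IsStableUnderBaseChange] [P.IsStableUnderComposition]
    (hiso : ∀ {A B : Scheme.{u}} (g : A ⟶ B) [IsIso g], P g) (hf : P f) : ∀ n, P (WidePullback.base fun _ : Fin n => f) := by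
  intro n
  induction n with
  | zero => exact hiso _
  | succ n ih =>
    rw [← show (initMap f n).left ≫ (pw f n).hom = WidePullback.base _ from Over.w (initMap f n)]
    exact P.comp_mem _ _ (MorphismProperty.of_isPullback (isPullback_initMap f n).flip hf) ih

instance smooth_base [Smooth f] (n : ℕ) : Smooth (WidePullback.base fun _ : Fin n => f) :=
  prop_base f @Smooth (fun _ _ => inferInstance) ‹_› n

instance separated_base [IsSeparated f] (n : ℕ) : IsSeparated (WidePullback.base fun _ : Fin n => f) :=
  prop_base f @IsSeparated (fun _ _ => inferInstance) ‹_› n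

section Field

variable {k : Type u} [Field k] [IsAlgClosed k] {X : Scheme.{u}} (f : X ⟶ Spec (CommRingCat.of k))

theorem irreducibleSpace_fibPow [Smooth f] [IrreducibleSpace X] :
    ∀ n, IrreducibleSpace ↥(SymProd.fibPow f n) := by
  have := S2500.result f
  intro n
  induction n with
  | zero =>
    let e := (asIso (WidePullback.base fun _ : Fin 0 => f)).hom.homeomorph
    have : IrreducibleSpace (Spec (CommRingCat.of k)) := inferInstanceAs (IrreducibleSpace (PrimeSpectrum k))
    exact e.symm.surjective.denseRange |> fun h => by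
      refine { toNonempty := ⟨e.symm (IsLocalRing.closedPoint k)⟩, isPreirreducible_univ := ?_ }
      rw [← e.symm.surjective.range_eq, ← Set.image_univ]
      exact (IrreducibleSpace.isIrreducible_univ _).isPreirreducible.image _ e.symm.continuous.continuousOn
  | succ n ih =>
    have hirr : IrreducibleSpace ↥(pullback f (pw f n).hom) :=
      @GeometricallyIrreducible.irreducibleSpace _ _ (pullback.snd f (pw f n).hom) _ ih (Scheme.Hom.isOpenMap _)
    let e := (isPullback_initMap f n).flip.isoPullback.inv.homeomorph
    refine { toNonempty := ⟨e (Classical.arbitrary _)⟩, isPreirreducible_univ := ?_ }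
    show IsPreirreducible (Set.univ : Set (pw f (n + 1)).left)
    rw [← e.surjective.range_eq, ← Set.image_univ]
    exact (IrreducibleSpace.isIrreducible_univ _).isPreirreducible.image _ e.continuous.continuousOn

omit [IsAlgClosed k] in
theorem dim_fibPow [LocallyOfFiniteType f] {d : ℕ} (hdim : topologicalKrullDim X = d) :
    ∀ n : ℕ, topologicalKrullDim ↥(SymProd.fibPow f n) = ((n * d : ℕ) : WithBot ℕ∞) := by
  intro n
  induction n with
  | zero =>
    rw [(asIso (WidePullback.base fun _ : Fin 0 => f)).hom.homeomorph.isHomeomorph.topologicalKrullDim_eq, Nat.zero_mul]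
    exact (PrimeSpectrum.topologicalKrullDim_eq_ringKrullDim k).trans (ringKrullDim_eq_zero_of_field k)
  | succ n ih =>
    have : LocallyOfFiniteType (pw f n).hom := prop_base f @LocallyOfFiniteType (fun _ _ => inferInstance) ‹_› n
    rw [show topologicalKrullDim ↥(SymProd.fibPow f (n + 1)) = topologicalKrullDim ↥(pullback (pw f n).hom f) from
      (isPullback_initMap f n).isoPullback.hom.homeomorph.isHomeomorph.topologicalKrullDim_eq,
      S4643.result, show topologicalKrullDim ↥(pw f n).left = _ from ih, hdim, ← Nat.cast_add, Nat.succ_mul]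

end Field

section Diag

variable {m : ℕ}

/-- Forgetting one factor. -/
def drop (i : Fin (m + 1)) : SymProd.fibPow f (m + 1) ⟶ SymProd.fibPow f m :=
  WidePullback.lift (WidePullback.base _) (fun l => WidePullback.π _ (i.succAbove l))
    (fun l => WidePullback.π_arrow _ _)

/-- Doubling the factor `j` at the place `i`. -/
def dbl (i : Fin (m + 1)) (j : Fin m) : SymProd.fibPow f m ⟶ SymProd.fibPow f (m + 1) :=
  WidePullback.lift (WidePullback.base _) (i.insertNth (WidePullback.π _ j) fun l => WidePullback.π _ l)
    (fun l => by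
      rcases Fin.eq_self_or_eq_succAbove i l with rfl | ⟨l, rfl⟩
      · rw [Fin.insertNth_apply_same]; exact WidePullback.π_arrow _ _
      · rw [Fin.insertNth_apply_succAbove]; exact WidePullback.π_arrow _ _)

theorem dbl_drop (i : Fin (m + 1)) (j : Fin m) : dbl f i j ≫ drop f i = 𝟙 _ := by
  refine WidePullback.hom_ext _ _ _ (fun l => ?_) ?_
  · rw [Category.assoc, drop, WidePullback.lift_π, dbl, WidePullback.lift_π, Fin.insertNth_apply_succAbove,
      Category.id_comp]
  · rw [Category.assoc, drop, WidePullback.lift_base, dbl, WidePullback.lift_base, Category.id_comp]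

theorem dbl_π (i : Fin (m + 1)) (j : Fin m) :
    dbl f i j ≫ WidePullback.π _ i = dbl f i j ≫ WidePullback.π _ (i.succAbove j) := by
  rw [dbl, WidePullback.lift_π, WidePullback.lift_π, Fin.insertNth_apply_same, Fin.insertNth_apply_succAbove]

theorem isClosedImmersion_dbl [IsSeparated f] (i : Fin (m + 1)) (j : Fin m) :
    IsClosedImmersion (dbl f i j) := by
  have : IsSeparated (drop f i) := by
    have : IsSeparated (drop f i ≫ WidePullback.base fun _ : Fin m => f) := by
      rw [drop, WidePullback.lift_base]; infer_instance
    exact IsSeparated.of_comp (drop f i) (WidePullback.base fun _ : Fin m => f)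
  have : IsClosedImmersion (dbl f i j ≫ drop f i) := by rw [dbl_drop]; infer_instance
  exact IsClosedImmersion.of_comp (dbl f i j) (drop f i)

/-- A point with two equal coordinates factors through the diagonal. -/
theorem factor_dbl {T : Scheme.{u}} (ξ : T ⟶ SymProd.fibPow f (m + 1)) (i : Fin (m + 1)) (j : Fin m)
    (h : ξ ≫ WidePullback.π _ i = ξ ≫ WidePullback.π _ (i.succAbove j)) :
    (ξ ≫ drop f i) ≫ dbl f i j = ξ := by
  refine WidePullback.hom_ext _ _ _ (fun l => ?_) ?_
  · rw [Category.assoc, Category.assoc, dbl, WidePullback.lift_π]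
    rcases Fin.eq_self_or_eq_succAbove i l with rfl | ⟨l, rfl⟩
    · rw [Fin.insertNth_apply_same, drop, WidePullback.lift_π, h]
    · rw [Fin.insertNth_apply_succAbove, drop, WidePullback.lift_π]
  · rw [Category.assoc, Category.assoc, dbl, WidePullback.lift_base, drop, WidePullback.lift_base]

/-- The big diagonal: points with two equal coordinates. -/
def bigDiagSet : Set ↥(SymProd.fibPow f (m + 1)) :=
  ⋃ (i : Fin (m + 1)) (j : Fin m), Set.range (dbl f i j)

theorem isClosed_bigDiagSet [IsSeparated f] : IsClosed (bigDiagSet f (m := m)) :=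
  isClosed_iUnion_of_finite fun i => isClosed_iUnion_of_finite fun j =>
    haveI := isClosedImmersion_dbl f i j
    (dbl f i j).isClosedEmbedding.isClosed_range

/-- A point with two equal coordinates lies in the big diagonal. -/
theorem mem_bigDiagSet {T : Scheme.{u}} (ξ : T ⟶ SymProd.fibPow f (m + 1)) {a b : Fin (m + 1)} (hab : a ≠ b)
    (h : ξ ≫ WidePullback.π _ a = ξ ≫ WidePullback.π _ b) (t : T) : ξ t ∈ bigDiagSet f := by
  obtain ⟨j, rfl⟩ := Fin.exists_succAbove_eq hab.symm
  exact Set.mem_iUnion_of_mem a (Set.mem_iUnion_of_mem j ⟨(ξ ≫ drop f a) t,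
    (Scheme.Hom.comp_apply _ _ t).symm.trans (by rw [factor_dbl f ξ a j h])⟩)

/-- The big diagonal is stable under permutations. -/
theorem perm_mem (σ : Equiv.Perm (Fin (m + 1))) {z : ↥(SymProd.fibPow f (m + 1))} (hz : z ∈ bigDiagSet f) :
    SymProd.permHom f (m + 1) σ z ∈ bigDiagSet f := by
  obtain ⟨i, hz⟩ := Set.mem_iUnion.1 hz
  obtain ⟨j, w, rfl⟩ := Set.mem_iUnion.1 hz
  rw [← Scheme.Hom.comp_apply]
  refine mem_bigDiagSet f _ (σ.injective.ne (Fin.succAbove_ne i j).symm) ?_ w
  rw [Category.assoc, Category.assoc, SymProd.permHom_π, SymProd.permHom_π, Equiv.symm_apply_apply,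
    Equiv.symm_apply_apply]
  exact dbl_π f i j

end Diag

section Codim

/-- A closed immersion does not lower heights. -/
theorem height_apply_le {Z W : Scheme.{u}} (c : Z ⟶ W) [IsClosedImmersion c] (w : Z) :
    Order.height (c w) ≤ Order.height w := by
  have key : ∀ (n : ℕ) (l : LTSeries W) (v : Z), l.length = n → l.last = c v → (n : ℕ∞) ≤ Order.height v := by
    intro n
    induction n with
    | zero => intro l v _ _; simp
    | succ n ih =>
      intro l v hn hl
      have hlt : l.eraseLast.last < c v := hl ▸ l.eraseLast_last_rel_last (by omega)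
      obtain ⟨v', hv'⟩ := (show c v ⤳ l.eraseLast.last from hlt.le).mem_closed c.isClosedEmbedding.isClosed_range ⟨v, rfl⟩
      rw [← hv'] at hlt
      have hvv : v' < v := by
        have hi := c.isClosedEmbedding.isInducing
        exact lt_iff_le_not_ge.mpr ⟨hi.specializes_iff.mp hlt.le, fun h => hlt.not_ge (hi.specializes_iff.mpr h)⟩
      have h := ih l.eraseLast v' (by simp [hn]) hv'.symm
      calc ((n + 1 : ℕ) : ℕ∞) = (n : ℕ∞) + 1 := by push_cast; rfl
        _ ≤ Order.height v' + 1 := add_le_add_left h 1
        _ ≤ Order.height v := Order.height_add_one_le hvv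
  refine Order.height_le fun l hl => key _ l w rfl hl

end Codim

end Groth.Agent.SymSing81
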